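import Groth.Agent.Lib.MTExtension14.Torsor
import Groth.Agent.Lib.DiagGrp.BaseChange
import Groth.Agent.Lib.DiagGrp.TrivialLocus
import Groth.Agent.Lib.GrpSchField.Points
import Groth.Agent.Lib.QuotTorus14.Basic
import Groth.Agent.Lib.DiagGrp.MultTypeFT

/-!
An extension of groups of multiplicative type with commutative fibres is commutative.
-/

set_option linter.unusedSectionVars false
set_option linter.style.haveILetI false

universe u

open CategoryTheory MonoidalCategory CartesianMonoidalCategory MonObj GrpObj AlgebraicGeometry CategoryTheory.Limits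

set_option maxHeartbeats 1600000

namespace GrothLib.MTExtension14

variable {S : Scheme.{u}}

/-- All fibres of `E` are commutative, on points. -/
def FibComm (E : Over S) [GrpObj E] : Prop :=
  ∀ (s : S) (T : Over S) (τ : T.left ⟶ Spec (S.residueField s)), τ ≫ S.fromSpecResidueField s = T.hom →
    ∀ a b : T ⟶ E, a * b = b * a

theorem fibComm_of_bc {E : Over S} [GrpObj E]
    (h : ∀ (s : S) (X : Over (Spec (S.residueField s))) (a b : X ⟶ Red.bc (S.fromSpecResidueField s) E),
      a * b = b * a) : FibComm E := by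
  intro s T τ hτ a b
  let F := S.fromSpecResidueField s
  let j : T ⟶ (Over.map F).obj (Over.mk τ) := Over.homMk (𝟙 _) ((Category.id_comp _).trans hτ)
  let j' : (Over.map F).obj (Over.mk τ) ⟶ T := Over.homMk (𝟙 _) ((Category.id_comp _).trans hτ.symm)
  have hj : j ≫ j' = 𝟙 T := Over.OverMorphism.ext (Category.id_comp _)
  have h1 : (j' ≫ a) * (j' ≫ b) = (j' ≫ b) * (j' ≫ a) :=
    (DiagGrp.bcPointMulEquiv F E (Over.mk τ)).injective (by rw [map_mul, map_mul]; exact h s _ _ _)
  have h2 := congrArg (j ≫ ·) h1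
  simp only [MonObj.comp_mul, ← Category.assoc, hj, Category.id_comp] at h2
  exact h2

variable {E H K : Over S} [GrpObj E] [GrpObj H] [GrpObj K] (p : E ⟶ K) [IsMonHom p] (i : H ⟶ E) [IsMonHom i]

theorem central_of_fibComm (hker : AlgGrp.IsKernel i p) (hH : SGA3x.IsMultTypeFT H) (hE : FibComm E) :
    ∀ (X : Over S) (h : X ⟶ H) (e : X ⟶ E), (h ≫ i) * e = e * (h ≫ i) := by
  classical
  haveI : Mono i := ⟨fun a b e => hker.hom_ext e (toUnit_unique _ _)⟩
  have hnorm : ∀ (T : Over S) (g : T ⟶ E) (n : T ⟶ H), ∃ m, g * (n ≫ i) * g⁻¹ = m ≫ i := by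
    intro T g n
    have h : (g * (n ≫ i) * g⁻¹) ≫ p = toUnit T ≫ η[K] := by
      rw [MonObj.mul_comp, MonObj.mul_comp, GrpObj.inv_comp, Category.assoc, hker.w, ← Category.assoc,
        toUnit_unique (n ≫ toUnit H) (toUnit T), ← Hom.one_def, _root_.mul_one, mul_inv_cancel]
    exact ⟨hker.lift _ _ h, (hker.lift_fst _ _ h).symm⟩
  have hch := GrothLib.DiagGrp.hasChartsFpqc_of_isMultTypeFT hH
  open GrothLib.DiagGrp in
  let z := E.hom
  let HT := Red.bc z H
  letI : GrpObj HT := Functor.grpObjObj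
  let kk : ∀ Y : Over E.left, (Over.map z).obj Y ⟶ E := fun Y => Over.homMk Y.hom rfl
  have hkk : ∀ {Y Y' : Over E.left} (a : Y ⟶ Y'), (Over.map z).map a ≫ kk Y' = kk Y := fun a =>
    Over.OverMorphism.ext (Over.w a)
  let h₀ := (GrothLib.DiagGrp.bcPoint z H HT).symm (𝟙 HT)
  obtain ⟨c, hc⟩ := hnorm _ (kk HT) h₀
  have hcY : ∀ {Y : Over E.left} (a : Y ⟶ HT),
      kk Y * ((GrothLib.DiagGrp.bcPoint z H Y).symm a ≫ i) * (kk Y)⁻¹ = ((Over.map z).map a ≫ c) ≫ i := by
    intro Y a
    have h1 : (GrothLib.DiagGrp.bcPoint z H Y).symm a = (Over.map z).map a ≫ h₀ := by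
      rw [Equiv.symm_apply_eq, GrothLib.DiagGrp.bcPoint_comp, Equiv.apply_symm_apply, Category.comp_id]
    rw [Category.assoc, ← hc, MonObj.comp_mul, MonObj.comp_mul, GrpObj.comp_inv, hkk, h1, Category.assoc]
  let w : HT ⟶ HT := GrothLib.DiagGrp.bcPointMulEquiv z H HT (c * h₀⁻¹)
  have hw : ∀ {Y : Over E.left} (a : Y ⟶ HT), a ≫ w = GrothLib.DiagGrp.bcPointMulEquiv z H Y
      (((Over.map z).map a ≫ c) * ((GrothLib.DiagGrp.bcPoint z H Y).symm a)⁻¹) := by
    intro Y a
    have h1 : (GrothLib.DiagGrp.bcPoint z H Y).symm a = (Over.map z).map a ≫ h₀ := by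
      rw [Equiv.symm_apply_eq, GrothLib.DiagGrp.bcPoint_comp, Equiv.apply_symm_apply, Category.comp_id]
    rw [h1, ← GrpObj.comp_inv, ← MonObj.comp_mul]
    exact (GrothLib.DiagGrp.bcPoint_comp z a _).symm
  have hwmul : ∀ {Y : Over E.left} (a b : Y ⟶ HT), (a * b) ≫ w = (a ≫ w) * (b ≫ w) := by
    intro Y a b
    rw [hw, hw, hw, ← map_mul]
    congr 1
    have hs : (GrothLib.DiagGrp.bcPoint z H Y).symm (a * b) =
        (GrothLib.DiagGrp.bcPoint z H Y).symm a * (GrothLib.DiagGrp.bcPoint z H Y).symm b :=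
      map_mul (GrothLib.DiagGrp.bcPointMulEquiv z H Y).symm a b
    have hcm : (Over.map z).map (a * b) ≫ c = ((Over.map z).map a ≫ c) * ((Over.map z).map b ≫ c) := by
      rw [← cancel_mono i, MonObj.mul_comp, ← hcY, ← hcY, ← hcY, hs, MonObj.mul_comp]
      simp only [_root_.mul_assoc, inv_mul_cancel_left]
    rw [hcm, hs]
    letI : CommGroup ((Over.map z).obj Y ⟶ H) :=
      { (inferInstance : Group ((Over.map z).obj Y ⟶ H)) with mul_comm := GrothLib.DiagGrp.mul_comm_of_charts hch _ }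
    rw [_root_.mul_inv_rev, _root_.mul_comm ((GrothLib.DiagGrp.bcPoint z H Y).symm b)⁻¹, _root_.mul_mul_mul_comm]
  haveI : IsMonHom w := GrothLib.GrpSchField.isMonHom_of_mul w (by
    have h1 := hwmul (fst HT HT) (snd HT HT)
    rw [Hom.mul_def, lift_fst_snd, Category.id_comp, Hom.mul_def, ← lift_map] at h1
    rw [h1, lift_fst_snd, Category.id_comp])
  have hchT := hch.baseChange z
  haveI := GrothLib.DiagGrp.isClosedImmersion_one_of_charts hchT
  haveI : LocallyOfFinitePresentation HT.hom := by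
    have := GrothLib.DiagGrp.lfp_of_isMultTypeFT hH
    exact inferInstanceAs (LocallyOfFinitePresentation (Limits.pullback.snd H.hom z))
  haveI : LocallyOfFinitePresentation η[HT].left := by
    refine GrothLib.DiagGrp.lfp_of_comp_of_lft _ HT.hom ?_ inferInstance
    rw [Over.w η[HT]]
    exact inferInstanceAs (LocallyOfFinitePresentation (𝟙 E.left))
  haveI : LocallyOfFinitePresentation (Limits.pullback.fst w.left η[HT].left) := inferInstance
  obtain ⟨V, hVc, hV, hVtriv⟩ := GrothLib.DiagGrp.exists_clopen_trivial w (hchT.mono fun _ _ _ => trivial)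
  -- triviality on a point of the parameter space
  let P : Over E.left → Prop := fun Y => ∀ h : (Over.map z).obj Y ⟶ H, kk Y * (h ≫ i) = (h ≫ i) * kk Y
  have hP : ∀ {Z : Scheme.{u}} (σ : Z ⟶ E.left), GrothLib.DiagGrp.TrivOver w σ ↔
      ∀ (Y : Over E.left) (τ : Y.left ⟶ Z), τ ≫ σ = Y.hom → P Y := by
    intro Z σ
    refine ⟨fun hσ Y τ hτ h => ?_, fun hσ Y τ hτ a => ?_⟩
    · have h2 := hσ Y τ hτ (GrothLib.DiagGrp.bcPoint z H Y h)
      rw [hw, ← map_one (GrothLib.DiagGrp.bcPointMulEquiv z H Y), EmbeddingLike.apply_eq_iff_eq,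
        Equiv.symm_apply_apply, mul_inv_eq_one] at h2
      have h3 := hcY (GrothLib.DiagGrp.bcPoint z H Y h)
      rw [h2, Equiv.symm_apply_apply, mul_inv_eq_iff_eq_mul] at h3
      exact h3
    · rw [hw, ← map_one (GrothLib.DiagGrp.bcPointMulEquiv z H Y), EmbeddingLike.apply_eq_iff_eq, mul_inv_eq_one,
        ← cancel_mono i, ← hcY, mul_inv_eq_iff_eq_mul]
      exact hσ Y τ hτ _
  have hmem : ∀ {L : Type u} [Field L] (σ : Spec (CommRingCat.of L) ⟶ E.left),
      GrothLib.DiagGrp.TrivOver w σ ↔ σ.base (IsLocalRing.closedPoint L) ∈ V := fun {L} _ σ => by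
    rw [hV, GrothLib.DiagGrp.trivOver_iff_pullback_eq_one, ← GrothLib.DiagGrp.trivOver_field_iff w σ]
  have hall : ∀ x : E.left, x ∈ V := by
    intro x
    rw [← Scheme.fromSpecResidueField_apply x (IsLocalRing.closedPoint _)]
    refine (hmem (E.left.fromSpecResidueField x)).1 ((hP _).2 fun Y τ hτ h => ?_)
    refine hE (z.base x) ((Over.map z).obj Y) (τ ≫ Spec.map (z.residueFieldMap x)) ?_ _ _
    change _ = Y.hom ≫ z
    rw [← hτ]
    simp only [Category.assoc]
    exact congrArg (τ ≫ ·) (Scheme.Hom.SpecMap_residueFieldMap_fromSpecResidueField z x)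
  intro X h e
  let Y : Over E.left := Over.mk e.left
  let j : X ⟶ (Over.map z).obj Y := Over.homMk (𝟙 _) ((Category.id_comp _).trans (Over.w e))
  let j' : (Over.map z).obj Y ⟶ X := Over.homMk (𝟙 _) ((Category.id_comp _).trans (Over.w e).symm)
  have hY : P Y := (hP V.ι).1 ((GrothLib.DiagGrp.trivOver_iff_pullback_eq_one w _).mp hVtriv) Y
    (IsOpenImmersion.lift V.ι Y.hom (by rw [V.range_ι]; exact fun y _ => hall y))
    (IsOpenImmersion.lift_fac _ _ _)
  have h6 := congrArg (j ≫ ·) (hY (j' ≫ h))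
  simp only [MonObj.comp_mul, ← Category.assoc] at h6
  rw [show j ≫ j' = 𝟙 _ from Over.OverMorphism.ext (Category.id_comp _), Category.id_comp,
    show j ≫ kk Y = e from Over.OverMorphism.ext (Category.id_comp _)] at h6
  exact h6.symm

theorem comm_of_fibComm [Flat p.left] [Surjective p.left] [LocallyOfFinitePresentation p.left]
    (hker : AlgGrp.IsKernel i p) (hH : SGA3x.IsMultTypeFT H) (hK : SGA3x.IsMultTypeFT K) (hE : FibComm E)
    (X : Over S) (g x : X ⟶ E) : g * x = x * g := by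
  classical
  haveI := mono_of_kernel hker
  have hz := central_of_fibComm p i hker hH hE
  have hchK := DiagGrp.hasChartsFpqc_of_isMultTypeFT hK
  have hchH := DiagGrp.hasChartsFpqc_of_isMultTypeFT hH
  let z := E.hom
  let ET := Red.bc z E
  let HT := Red.bc z H
  let KT := Red.bc z K
  letI : GrpObj ET := Functor.grpObjObj
  letI : GrpObj HT := Functor.grpObjObj
  letI : GrpObj KT := Functor.grpObjObj
  let pT : ET ⟶ KT := (Over.pullback z).map p
  let kk : ∀ Y : Over E.left, (Over.map z).obj Y ⟶ E := fun Y => Over.homMk Y.hom rfl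
  have hkk : ∀ {Y Y' : Over E.left} (a : Y ⟶ Y'), (Over.map z).map a ≫ kk Y' = kk Y := fun a =>
    Over.OverMorphism.ext (Over.w a)
  let h₀ := (DiagGrp.bcPoint z E ET).symm (𝟙 ET)
  obtain ⟨c, hc⟩ := exists_lift hker (kk ET * h₀ * (kk ET)⁻¹ * h₀⁻¹) (by
    simp only [MonObj.mul_comp, GrpObj.inv_comp]
    rw [DiagGrp.mul_comm_of_charts hchK _ (kk ET ≫ p) (h₀ ≫ p)]
    group)
  have hsymm : ∀ {Y : Over E.left} (a : Y ⟶ ET), (DiagGrp.bcPoint z E Y).symm a = (Over.map z).map a ≫ h₀ := by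
    intro Y a
    rw [Equiv.symm_apply_eq, DiagGrp.bcPoint_comp, Equiv.apply_symm_apply, Category.comp_id]
  have hcY : ∀ {Y : Over E.left} (a : Y ⟶ ET), ((Over.map z).map a ≫ c) ≫ i =
      kk Y * (DiagGrp.bcPoint z E Y).symm a * (kk Y)⁻¹ * ((DiagGrp.bcPoint z E Y).symm a)⁻¹ := by
    intro Y a
    rw [Category.assoc, hc, MonObj.comp_mul, MonObj.comp_mul, MonObj.comp_mul, GrpObj.comp_inv, GrpObj.comp_inv,
      hkk, ← hsymm]
  let w : ET ⟶ HT := DiagGrp.bcPointMulEquiv z H ET c
  have hw : ∀ {Y : Over E.left} (a : Y ⟶ ET),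
      a ≫ w = DiagGrp.bcPointMulEquiv z H Y ((Over.map z).map a ≫ c) :=
    fun a => (DiagGrp.bcPoint_comp z a c).symm
  have hwmul : ∀ {Y : Over E.left} (a b : Y ⟶ ET), (a * b) ≫ w = (a ≫ w) * (b ≫ w) := by
    intro Y a b
    rw [hw, hw, hw, ← map_mul]
    congr 1
    have hs : (DiagGrp.bcPoint z E Y).symm (a * b) =
        (DiagGrp.bcPoint z E Y).symm a * (DiagGrp.bcPoint z E Y).symm b :=
      map_mul (DiagGrp.bcPointMulEquiv z E Y).symm a b
    rw [← cancel_mono i, MonObj.mul_comp, hcY, hs]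
    have hb := hz _ ((Over.map z).map b ≫ c) (((DiagGrp.bcPoint z E Y).symm a)⁻¹)
    generalize hα : (DiagGrp.bcPoint z E Y).symm a = α at hb
    generalize hβ : (DiagGrp.bcPoint z E Y).symm b = β
    have hb' : ((Over.map z).map b ≫ c) ≫ i = kk Y * β * (kk Y)⁻¹ * β⁻¹ := hβ ▸ hcY b
    rw [hcY a, hα, _root_.mul_assoc _ α⁻¹, ← hb, hb']
    group
  haveI : IsMonHom w := DiagGrp.isMonHom_of_points w fun Y a b => hwmul a b
  have sqp := DiagGrp.isPullback_overMap p z
  haveI : Flat pT.left := MorphismProperty.of_isPullback sqp.flip ‹Flat p.left›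
  haveI : Surjective pT.left := MorphismProperty.of_isPullback sqp.flip ‹Surjective p.left›
  haveI : LocallyOfFinitePresentation pT.left :=
    MorphismProperty.of_isPullback sqp.flip ‹LocallyOfFinitePresentation p.left›
  obtain ⟨d, hd⟩ := QuotTorus14.exists_desc pT w fun C _ q a a' haa => by
    rw [hw, hw]
    congr 1
    have h1 : (DiagGrp.bcPoint z E _).symm a ≫ p = (DiagGrp.bcPoint z E _).symm a' ≫ p := by
      apply (DiagGrp.bcPoint z K _).injective
      rw [DiagGrp.bcPoint_comp_right, DiagGrp.bcPoint_comp_right, Equiv.apply_symm_apply, Equiv.apply_symm_apply]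
      exact haa
    obtain ⟨h, hh⟩ := (comp_eq_iff hker _ _).1 h1
    rw [← cancel_mono i, hcY, hcY, hh, ← _root_.mul_assoc (kk _), _root_.mul_inv_rev,
      _root_.mul_assoc (kk _ * _) (h ≫ i), hz _ h (kk _)⁻¹]
    group
  haveI : IsMonHom (pT ≫ d) := by rw [hd]; infer_instance
  haveI : IsMonHom d := QuotTorus14.isMonHom_desc pT d
  have hchT := (hchH.baseChange z)
  haveI := DiagGrp.isClosedImmersion_one_of_charts hchT
  haveI : LocallyOfFinitePresentation HT.hom := by
    have := DiagGrp.lfp_of_isMultTypeFT hH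
    exact inferInstanceAs (LocallyOfFinitePresentation (Limits.pullback.snd H.hom z))
  haveI : LocallyOfFinitePresentation η[HT].left := by
    refine DiagGrp.lfp_of_comp_of_lft _ HT.hom ?_ inferInstance
    rw [Over.w η[HT]]
    exact inferInstanceAs (LocallyOfFinitePresentation (𝟙 E.left))
  haveI : LocallyOfFinitePresentation (Limits.pullback.fst d.left η[HT].left) := inferInstance
  obtain ⟨V, -, hV, hVtriv⟩ := DiagGrp.exists_clopen_trivial d ((hchK.baseChange z).mono fun _ _ _ => trivial)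
  have hall : ∀ y : E.left, y ∈ V := by
    intro y
    rw [hV, DiagGrp.trivOver_iff_pullback_eq_one]
    intro Y τ hτ b
    let Y' : Over E.left := Over.mk (pullback.fst b.left pT.left ≫ Y.hom)
    let j : Y' ⟶ Y := Over.homMk (pullback.fst b.left pT.left) rfl
    let a : Y' ⟶ ET := Over.homMk (pullback.snd b.left pT.left) (by
      change _ = pullback.fst b.left pT.left ≫ Y.hom
      rw [← Over.w pT, ← Over.w b, pullback.condition_assoc])
    have hab : j ≫ b = a ≫ pT := Over.OverMorphism.ext pullback.condition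
    have ha : a ≫ w = 1 := by
      rw [hw, ← map_one (DiagGrp.bcPointMulEquiv z H Y')]
      congr 1
      rw [← cancel_mono i, hcY, MonObj.one_comp]
      rw [hE (z.base y) ((Over.map z).obj Y') (j.left ≫ τ ≫ Spec.map (z.residueFieldMap y)) (by
        change _ = Y'.hom ≫ z
        rw [← Over.w j, ← hτ]
        simp only [Category.assoc]
        exact congrArg (fun t => j.left ≫ τ ≫ t) (Scheme.Hom.SpecMap_residueFieldMap_fromSpecResidueField z y)) (kk Y')]
      group
    haveI : Epi j.left := Flat.epi_of_flat_of_surjective (pullback.fst b.left pT.left)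
    haveI : Epi j := (Over.forget E.left).epi_of_epi_map (inferInstanceAs (Epi j.left))
    rw [← cancel_epi j, MonObj.comp_one, reassoc_of% hab, hd, ha]
  let Y : Over E.left := Over.mk g.left
  let j : X ⟶ (Over.map z).obj Y := Over.homMk (𝟙 _) ((Category.id_comp _).trans (Over.w g))
  let j' : (Over.map z).obj Y ⟶ X := Over.homMk (𝟙 _) ((Category.id_comp _).trans (Over.w g).symm)
  let a : Y ⟶ ET := DiagGrp.bcPoint z E Y (j' ≫ x)
  have ha : a ≫ w = 1 := by
    rw [← hd, ← Category.assoc]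
    exact (DiagGrp.trivOver_iff_pullback_eq_one d _).mp hVtriv Y
      (IsOpenImmersion.lift V.ι Y.hom (by rw [V.range_ι]; exact fun y _ => hall y))
      (IsOpenImmersion.lift_fac _ _ _) _
  rw [hw, ← map_one (DiagGrp.bcPointMulEquiv z H Y), EmbeddingLike.apply_eq_iff_eq, ← cancel_mono i, hcY,
    MonObj.one_comp, mul_inv_eq_one, mul_inv_eq_iff_eq_mul, Equiv.symm_apply_apply] at ha
  have h6 := congrArg (j ≫ ·) ha
  simp only [MonObj.comp_mul, ← Category.assoc] at h6
  rwa [show j ≫ j' = 𝟙 _ from Over.OverMorphism.ext (Category.id_comp _), Category.id_comp,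
    show j ≫ kk Y = g from Over.OverMorphism.ext (Category.id_comp _)] at h6

end GrothLib.MTExtension14
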