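import Groth.Agent.Lib.MTExtension14.Comm
import Groth.Agent.Lib.CentMT14.Quotient
import Groth.Agent.Lib.MultHopf14.Frames
import Groth.Agent.Lib.MultHopf14.FgCharts
import Groth.Agent.Lib.MultQuot14.Kernel
import Groth.Agent.Lib.SplitTors24.Point
import Groth.Agent.S5264

/-!
Extensions of groups of multiplicative type with commutative fibres over an affine base.
-/

set_option linter.unusedSectionVars false
set_option linter.style.haveILetI false

universe u

open CategoryTheory MonoidalCategory CartesianMonoidalCategory MonObj GrpObj AlgebraicGeometry CategoryTheory.Limits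
open scoped TensorProduct
open WithConv

set_option backward.isDefEq.respectTransparency false
set_option maxHeartbeats 1600000
set_option synthInstance.maxHeartbeats 400000

namespace GrothLib.MTExtension14

open GrothLib.DiagGrp GrothLib.MultHopf14 GrothLib.MultLocal GrothLib.CentMT14

variable {R : Type u} [CommRing R]

/-- The power maps of a group of multiplicative type are finite. -/
theorem finite_powConv (A : Type u) [CommRing A] [HopfAlgebra R A] [Algebra.FiniteType R A]
    (h : SGA3b.IsMultType R A) (n : ℕ) (hn : 0 < n) : (SGA3b.powConv R A n : A →+* A).Finite := by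
  classical
  obtain ⟨σ, T, _, _, hT, -, M, _, hM, g, hg⟩ := exists_etale_frames h
  haveI := GrothLib.MultHopf14.IsCoverFam.faithfullyFlat hT
  haveI := hT.finite
  haveI := Fintype.ofFinite σ
  haveI : ∀ i, Fintype (M i ⧸ MultLocal.powSub (M i) n) := fun i => by
    haveI := hM i
    haveI := MultLocal.finite_quot_powSub (M := M i) hn
    exact Fintype.ofFinite _
  choose dec hdec using fun (i : σ) (c : M i ⧸ MultLocal.powSub (M i) n) =>
    TensorProduct.exists_finset (R := R) ((g i c.out).val : T i ⊗[R] A)
  let G : Finset A := Finset.univ.biUnion fun i => Finset.univ.biUnion fun c => (dec i c).image Prod.snd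
  let N : Submodule R A := Submodule.span R {y | ∃ a, ∃ b ∈ G, y = SGA3b.powConv R A n a * b}
  have hW : ∀ i, N.baseChange (T i) = ⊤ := by
    intro i
    have hmul : ∀ (z : T i ⊗[R] A) (b : A), b ∈ G → ∀ t : T i,
        SGA3b.powConv (T i) (T i ⊗[R] A) n z * (t ⊗ₜ b) ∈ N.baseChange (T i) := by
      intro z b hb t
      induction z using TensorProduct.induction_on with
      | zero => rw [map_zero, zero_mul]; exact zero_mem _
      | add x y hx hy => rw [map_add, add_mul]; exact add_mem hx hy
      | tmul s a =>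
        rw [show s ⊗ₜ[R] a = s • ((1 : T i) ⊗ₜ[R] a) by rw [TensorProduct.smul_tmul', smul_eq_mul, _root_.mul_one],
          map_smul, GrothLib.OT.powConv_baseChange, smul_mul_assoc, Algebra.TensorProduct.tmul_mul_tmul,
          _root_.one_mul, TensorProduct.smul_tmul']
        exact Submodule.tmul_mem_baseChange_of_mem _ (Submodule.subset_span ⟨a, b, hb, rfl⟩)
    have hgm : ∀ m : M i, (g i m).val ∈ N.baseChange (T i) := by
      intro m
      let c : M i ⧸ MultLocal.powSub (M i) n := (m : M i ⧸ _)
      have hc : (c.out : M i ⧸ MultLocal.powSub (M i) n) = (m : M i ⧸ MultLocal.powSub (M i) n) := Quotient.out_eq c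
      obtain ⟨y, hy⟩ := MultLocal.mem_powSub.1 (QuotientGroup.eq.1 hc)
      have hm : m = y ^ n * c.out := by rw [hy, _root_.mul_comm, mul_inv_cancel_left]
      rw [hm, map_mul, map_pow, GroupLike.val_mul, GroupLike.val_pow,
        ← MultLocal.powConv_groupLike n (g i y).isGroupLikeElem_val, hdec i c, Finset.mul_sum]
      refine sum_mem fun x hx => hmul _ x.2 ?_ x.1
      exact Finset.mem_biUnion.2 ⟨i, Finset.mem_univ _, Finset.mem_biUnion.2
        ⟨c, Finset.mem_univ _, Finset.mem_image.2 ⟨x, hx, rfl⟩⟩⟩
    refine eq_top_iff.2 ?_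
    rintro z -
    obtain ⟨z, rfl⟩ := (hg i).2 z
    induction z using MonoidAlgebra.induction_linear with
    | zero => rw [map_zero]; exact zero_mem _
    | add x y hx hy => rw [map_add]; exact add_mem hx hy
    | single m r => rw [glHom_single]; exact Submodule.smul_mem _ _ (hgm m)
  have hQ : ∀ i, Subsingleton (T i ⊗[R] (A ⧸ N)) := fun i => by
    have hker : N.baseChange (T i) ≤ LinearMap.ker (N.mkQ.baseChange (T i)) := by
      rw [Submodule.baseChange_eq_span, Submodule.span_le]
      rintro _ ⟨a, ha, rfl⟩
      simp only [SetLike.mem_coe, LinearMap.mem_ker]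
      change (1 : T i) ⊗ₜ[R] N.mkQ a = 0
      rw [show N.mkQ a = 0 from (Submodule.Quotient.mk_eq_zero N).2 ha, TensorProduct.tmul_zero]
    have h0 : ∀ z : T i ⊗[R] (A ⧸ N), z = 0 := fun z => by
      obtain ⟨z, rfl⟩ := LinearMap.lTensor_surjective (T i) (g := N.mkQ) (Submodule.mkQ_surjective N) z
      exact hker (by rw [hW i]; trivial)
    exact ⟨fun a b => (h0 a).trans (h0 b).symm⟩
  have hsub : Subsingleton (A ⧸ N) := by
    haveI : Subsingleton ((∀ i, T i) ⊗[R] (A ⧸ N)) :=
      ((TensorProduct.comm R _ _).trans (TensorProduct.piRight R R (A ⧸ N) T)).toEquiv.subsingleton_congr.mpr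
        (@Pi.instSubsingleton _ _ fun i => (TensorProduct.comm R _ _).toEquiv.subsingleton_congr.mp (hQ i))
    exact Module.FaithfullyFlat.lTensor_reflects_triviality R (∀ i, T i) _
  let alg : Algebra A A := (SGA3b.powConv R A n : A →+* A).toAlgebra
  let Sp : @Submodule A A _ _ alg.toModule := @Submodule.span A A _ _ alg.toModule (G : Set A)
  have hmul : ∀ (c x : A), x ∈ Sp → SGA3b.powConv R A n c * x ∈ Sp := fun c x hx =>
    @Submodule.smul_mem A A _ _ alg.toModule Sp x c hx
  refine @Module.Finite.of_fg_top A A _ _ alg.toModule ⟨G, eq_top_iff.2 fun a _ => ?_⟩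
  change a ∈ Sp
  have ha : a ∈ N := (Submodule.Quotient.mk_eq_zero N).1 (Subsingleton.elim _ _)
  refine Submodule.span_induction ?_ (zero_mem Sp) (fun _ _ _ _ hx hy => add_mem hx hy) (fun r x _ hx => ?_) ha
  · rintro _ ⟨c, b, hb, rfl⟩
    exact hmul c b (@Submodule.subset_span A A _ _ alg.toModule _ _ hb)
  · rw [Algebra.smul_def, show algebraMap R A r = SGA3b.powConv R A n (algebraMap R A r) from
      ((SGA3b.powConv R A n).commutes r).symm]
    exact hmul _ x hx

theorem finite_torsion (A : Type u) [CommRing A] [HopfAlgebra R A] (n : ℕ)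
    (h : (SGA3b.powConv R A n : A →+* A).Finite) : Module.Finite R (A ⧸ SGA3b.torsionIdeal R A n) := by
  let J := SGA3b.torsionIdeal R A n
  let alg : Algebra A A := (SGA3b.powConv R A n : A →+* A).toAlgebra
  obtain ⟨G, hG⟩ := Module.Finite.fg_top (self := (h : @Module.Finite A A _ _ alg.toModule))
  classical
  refine ⟨⟨G.image (Ideal.Quotient.mk J), eq_top_iff.2 ?_⟩⟩
  rintro z -
  obtain ⟨a, rfl⟩ := Ideal.Quotient.mk_surjective z
  have ha := (SetLike.ext_iff.mp hG a).mpr trivial
  induction ha using Submodule.span_induction with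
  | mem x hx => exact Submodule.subset_span (Finset.mem_image_of_mem _ hx)
  | zero => rw [map_zero]; exact zero_mem _
  | add x y _ _ hx hy => rw [map_add]; exact add_mem hx hy
  | smul c x _ hx =>
    change Ideal.Quotient.mk J (SGA3b.powConv R A n c * x) ∈ _
    have hc : Ideal.Quotient.mk J (SGA3b.powConv R A n c * x) =
        Coalgebra.counit (R := R) c • Ideal.Quotient.mk J x := by
      rw [map_mul, Algebra.smul_def, ← Ideal.Quotient.mk_algebraMap]
      congr 1
      rw [Ideal.Quotient.mk_eq_mk_iff_sub_mem, ← (SGA3b.powConv R A n).commutes, ← map_sub]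
      exact Ideal.mem_map_of_mem _ (by simp)
    rw [hc]
    exact Submodule.smul_mem _ _ hx

theorem pow_left_eq (A : Type u) [CommRing A] [HopfAlgebra R A] (n : ℕ) :
    (𝟙 (specGrp (R := R) A) ^ n).left = Spec.map (CommRingCat.ofHom (SGA3b.powConv R A n : A →+* A)) := by
  have h1 : Spec.mapMulEquiv (toConv (AlgHom.id R A)) = 𝟙 (specGrp (R := R) A) := by
    apply Over.OverMorphism.ext
    change Spec.map (CommRingCat.ofHom (RingHom.id A)) = 𝟙 _
    exact Spec.map_id _
  rw [← h1, ← map_pow]
  rfl

theorem pow_conj {S : Scheme.{u}} {X Y : Over S} [GrpObj X] [GrpObj Y] (φ : X ⟶ Y) [IsMonHom φ] (n : ℕ) :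
    (𝟙 X ^ n) ≫ φ = φ ≫ (𝟙 Y ^ n) := by
  rw [MonObj.pow_comp, Category.id_comp, MonObj.comp_pow, Category.comp_id]

theorem isFinite_pow_congr {S : Scheme.{u}} {X Y : Over S} [GrpObj X] [GrpObj Y] (e : Grp.mk X ≅ Grp.mk Y) (n : ℕ)
    (h : IsFinite (𝟙 X ^ n : X ⟶ X).left) : IsFinite (𝟙 Y ^ n : Y ⟶ Y).left := by
  let φ : X ⟶ Y := e.hom.hom.hom
  haveI : IsMonHom φ := Mon.Hom.isMonHom_hom _
  haveI : IsIso φ := inferInstanceAs (IsIso ((Grp.forget _).map e.hom))
  haveI : IsIso φ.left := inferInstanceAs (IsIso ((Over.forget _).map φ))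
  have h1 : (𝟙 X ^ n : X ⟶ X).left ≫ φ.left = φ.left ≫ (𝟙 Y ^ n : Y ⟶ Y).left :=
    congrArg (fun t => t.left) (pow_conj φ n)
  rw [← MorphismProperty.cancel_left_of_respectsIso @IsFinite φ.left, ← h1,
    MorphismProperty.cancel_right_of_respectsIso @IsFinite]
  exact h

theorem isFinite_pow_of_isMultTypeFT {H : Over (Spec (CommRingCat.of R))} [GrpObj H] (hH : SGA3x.IsMultTypeFT H)
    (n : ℕ) (hn : 0 < n) : IsFinite (𝟙 H ^ n : H ⟶ H).left := by
  obtain ⟨A, _, _, ⟨e⟩⟩ := exists_hopf H (GrothLib.EssFree.isAffineHom_multTypeFT H hH)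
  let eh : specGrp (R := R) A ⟶ H := e.hom.hom.hom
  haveI : IsMonHom eh := Mon.Hom.isMonHom_hom _
  haveI : IsIso eh := inferInstanceAs (IsIso ((Grp.forget _).map e.hom))
  haveI := DiagGrp.lfp_of_isMultTypeFT hH
  haveI : IsIso eh.left := inferInstanceAs (IsIso ((Over.forget _).map eh))
  have h1 : LocallyOfFinitePresentation (specGrp (R := R) A).hom := by rw [← Over.w eh]; infer_instance
  haveI : Algebra.FinitePresentation R A := by
    change LocallyOfFinitePresentation (Spec.map (CommRingCat.ofHom (algebraMap R A))) at h1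
    rw [HasRingHomProperty.Spec_iff (P := @LocallyOfFinitePresentation), CommRingCat.hom_ofHom,
      RingHom.finitePresentation_algebraMap] at h1
    exact h1
  have hA : SGA3b.IsMultType R A :=
    isMultType_of_charts (hasChartsFpqc_of_isMultTypeFT (isMultTypeFT_congr hH eh))
  refine isFinite_pow_congr e n ?_
  rw [pow_left_eq, IsFinite.SpecMap_iff]
  exact finite_powConv A hA n hn

variable {E H K : Over (Spec (CommRingCat.of R))} [GrpObj E] [GrpObj H] [GrpObj K]

/-- Over an affine base, an extension of groups of multiplicative type with commutative fibres. -/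
theorem isMultTypeFT_affine (p : E ⟶ K) [IsMonHom p] [Surjective p.left] [Flat p.left] [QuasiCompact p.left]
    (i : H ⟶ E) [IsMonHom i] (hker : AlgGrp.IsKernel i p) (hH : SGA3x.IsMultTypeFT H) (hK : SGA3x.IsMultTypeFT K)
    (hKf : Flat K.hom) (hE : FibComm E) : SGA3x.IsMultTypeFT E := by
  haveI := DiagGrp.lfp_of_isMultTypeFT hH
  haveI := DiagGrp.lfp_of_isMultTypeFT hK
  haveI : LocallyOfFinitePresentation p.left := property_of_kernel @LocallyOfFinitePresentation hker inferInstance
  haveI : IsAffineHom p.left :=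
    property_of_kernel @IsAffineHom hker (GrothLib.EssFree.isAffineHom_multTypeFT H hH)
  haveI := GrothLib.EssFree.isAffineHom_multTypeFT K hK
  haveI : IsAffineHom E.hom := by rw [← Over.w p]; infer_instance
  haveI : LocallyOfFinitePresentation E.hom := by rw [← Over.w p]; infer_instance
  haveI : Flat E.hom := by rw [← Over.w p]; infer_instance
  have hcomm := comm_of_fibComm p i hker hH hK hE
  obtain ⟨C, _, _, ⟨e⟩⟩ := exists_hopf E inferInstance
  let eh : specGrp (R := R) C ⟶ E := e.hom.hom.hom
  haveI : IsMonHom eh := Mon.Hom.isMonHom_hom _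
  haveI : IsIso eh := inferInstanceAs (IsIso ((Grp.forget _).map e.hom))
  haveI : IsIso eh.left := inferInstanceAs (IsIso ((Over.forget _).map eh))
  haveI : Coalgebra.IsCocomm R C := ⟨congrArg AlgHom.toLinearMap
    ((isComul_specPt (R := R) C).comm (isUniv_specPt C) fun Y a b => by
      rw [← cancel_mono eh, MonObj.mul_comp, MonObj.mul_comp]
      exact hcomm _ _ _)⟩
  haveI : Algebra.FinitePresentation R C := by
    have h1 : LocallyOfFinitePresentation (specGrp (R := R) C).hom := by rw [← Over.w eh]; infer_instance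
    change LocallyOfFinitePresentation (Spec.map (CommRingCat.ofHom (algebraMap R C))) at h1
    rw [HasRingHomProperty.Spec_iff (P := @LocallyOfFinitePresentation), CommRingCat.hom_ofHom,
      RingHom.finitePresentation_algebraMap] at h1
    exact h1
  haveI : Module.Flat R C := by
    have h1 : Flat (specGrp (R := R) C).hom := by rw [← Over.w eh]; infer_instance
    change Flat (Spec.map (CommRingCat.ofHom (algebraMap R C))) at h1
    rw [HasRingHomProperty.Spec_iff (P := @Flat), CommRingCat.hom_ofHom, RingHom.flat_algebraMap_iff] at h1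
    exact h1
  have hC : SGA3b.IsMultType R C := by
    refine Groth.Agent.S5264.result R C inferInstance (fun P _ => ?_) fun n hn => finite_torsion C n ?_
    · let f : Spec (CommRingCat.of P.ResidueField) ⟶ Spec (CommRingCat.of R) :=
        Spec.map (CommRingCat.ofHom (algebraMap R P.ResidueField))
      haveI : IsAffineHom (Red.bc f E).hom :=
        MorphismProperty.pullback_snd _ _ ‹IsAffineHom E.hom›
      haveI : IsAffine (Red.bc f E).left := isAffine_of_isAffineHom (Red.bc f E).hom
      haveI : LocallyOfFiniteType (Red.bc f E).hom :=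
        inferInstanceAs (LocallyOfFiniteType (pullback.snd E.hom f))
      have sqp := DiagGrp.isPullback_overMap p f
      haveI : Flat ((Over.pullback f).map p).left := MorphismProperty.of_isPullback sqp.flip ‹Flat p.left›
      haveI : Surjective ((Over.pullback f).map p).left :=
        MorphismProperty.of_isPullback sqp.flip ‹Surjective p.left›
      haveI : LocallyOfFinitePresentation ((Over.pullback f).map p).left :=
        MorphismProperty.of_isPullback sqp.flip ‹LocallyOfFinitePresentation p.left›
      have hbc : ∀ (Y : Over (Spec (CommRingCat.of P.ResidueField))) (a b : Y ⟶ Red.bc f E), a * b = b * a := by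
        intro Y a b
        apply (bcPointMulEquiv f E Y).symm.injective
        rw [map_mul, map_mul]
        exact hcomm _ _ _
      have h1 := isMultTypeFT_of_extension (k := P.ResidueField) hbc ((Over.pullback f).map p)
        ((Over.pullback f).map i) (GrothLib.SplitTors24.isKernel_bc f hker)
        (QuotTorus14.isMultTypeFT_of_charts ((hasChartsFpqc_of_isMultTypeFT hH).baseChange f))
        (QuotTorus14.isMultTypeFT_of_charts ((hasChartsFpqc_of_isMultTypeFT hK).baseChange f))
      obtain ⟨e₁⟩ := bcGrp_specGrp (R := R) P.ResidueField C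
      let e₂ := e₁.symm ≪≫ (Over.pullback f).mapGrp.mapIso e
      haveI : IsMonHom e₂.hom.hom.hom := Mon.Hom.isMonHom_hom _
      haveI : IsIso e₂.hom.hom.hom := inferInstanceAs (IsIso ((Grp.forget _).map e₂.hom))
      exact isMultType_of_charts (hasChartsFpqc_of_isMultTypeFT (isMultTypeFT_congr h1 e₂.hom.hom.hom))
    · rw [← CommRingCat.hom_ofHom (SGA3b.powConv R C n : C →+* C), ← IsFinite.SpecMap_iff, ← pow_left_eq]
      exact isFinite_pow_congr e.symm n
        (isFinite_pow hker hcomm n (isFinite_pow_of_isMultTypeFT hH n hn) (isFinite_pow_of_isMultTypeFT hK n hn))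
  obtain ⟨σ, T, _, _, hT, -, M, _, hM, g, hg⟩ := exists_etale_frames hC
  let einv : E ⟶ specGrp (R := R) C := e.inv.hom.hom
  haveI : IsMonHom einv := Mon.Hom.isMonHom_hom _
  haveI : IsIso einv := inferInstanceAs (IsIso ((Grp.forget _).map e.inv))
  exact isMultTypeFT_congr (QuotTorus14.isMultTypeFT_of_charts (hasChartsFpqc_of_frames T hT hM hg)) einv

end GrothLib.MTExtension14
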