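import Groth.Agent.Lib.MTExtension14.Local
import Groth.Agent.S5430

/-!
Extensions of groups of multiplicative type.
-/

set_option linter.unusedSectionVars false
set_option linter.style.haveILetI false

universe u

open CategoryTheory MonoidalCategory CartesianMonoidalCategory MonObj GrpObj AlgebraicGeometry CategoryTheory.Limits

set_option backward.isDefEq.respectTransparency false
set_option maxHeartbeats 1600000
set_option synthInstance.maxHeartbeats 400000

namespace GrothLib.MTExtension14

open GrothLib.DiagGrp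

variable {S : Scheme.{u}}

/-- Multiplicative type is Zariski local on the base. -/
theorem isMultTypeFT_of_affineOpens (E : Over S) [GrpObj E]
    (h : ∀ V : S.affineOpens, SGA3x.IsMultTypeFT (Red.bc V.1.ι E)) : SGA3x.IsMultTypeFT E := by
  choose Z π hfl hsu hqc hloc using h
  let inj := fun V => Limits.Sigma.ι Z V
  let q : (∐ Z) ⟶ S := Limits.Sigma.desc fun V => π V ≫ V.1.ι
  have hq : ∀ V, inj V ≫ q = π V ≫ V.1.ι := fun V => Limits.Sigma.ι_desc _ _
  haveI : Flat q := IsZariskiLocalAtSource.of_openCover (P := @Flat) (sigmaOpenCover _) fun V => by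
    haveI := hfl V
    change Flat (inj V ≫ q)
    rw [hq V]
    infer_instance
  have hqc' : ∀ V : S.Opens, IsAffineOpen V →
      ∃ W : (∐ Z).Opens, IsCompact (W : Set ↑(∐ Z)) ∧ q.base '' (W : Set ↑(∐ Z)) = (V : Set S) := by
    intro V hV
    let V' : S.affineOpens := ⟨V, hV⟩
    haveI : IsAffine (V : Scheme.{u}) := hV
    obtain ⟨W, hW, hWim⟩ := hqc V' ⊤ (isAffineOpen_top _)
    haveI : IsOpenImmersion (inj V') := inferInstanceAs (IsOpenImmersion (Limits.Sigma.ι Z V'))
    refine ⟨inj V' ''ᵁ W, hW.image (inj V').continuous, ?_⟩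
    change q.base '' ((inj V').base '' (W : Set (Z V'))) = _
    rw [Set.image_image]
    simp only [← Scheme.Hom.comp_apply, hq]
    simp only [Scheme.Hom.comp_apply]
    rw [← Set.image_image (V'.1.ι.base), hWim]
    simp [V']
    exact Subtype.range_coe
  haveI : Surjective q := ⟨fun x => by
    obtain ⟨V, hV, hx, -⟩ := exists_isAffineOpen_mem_and_subset (show x ∈ (⊤ : S.Opens) from trivial)
    obtain ⟨W, -, hW⟩ := hqc' V hV
    have hx' : x ∈ q.base '' (W : Set ↑(∐ Z)) := hW.symm ▸ hx
    obtain ⟨w, -, e⟩ := hx'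
    exact ⟨w, e⟩⟩
  refine QuotTorus14.isMultTypeFT_of_charts ⟨∐ Z, q, inferInstance, inferInstance, hqc', fun s' => ?_⟩
  obtain ⟨V, x, rfl⟩ := (sigmaOpenCover Z).exists_eq s'
  obtain ⟨U, hU, M, inst, hM, ⟨e⟩⟩ := hloc V x
  haveI : IsOpenImmersion (inj V) := inferInstanceAs (IsOpenImmersion (Limits.Sigma.ι Z V))
  refine ⟨inj V ''ᵁ U, ⟨x, hU, rfl⟩, ?_⟩
  have h1 : HasChart fgM E ((U.ι ≫ π V) ≫ V.1.ι) :=
    ⟨M, inst, hM, ⟨bcGrpComp E V.1.ι (U.ι ≫ π V) ((U.ι ≫ π V) ≫ V.1.ι) rfl ≪≫ e⟩⟩
  refine h1.precomp ((inj V).isoImage U).inv _ ?_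
  rw [← cancel_epi ((inj V).isoImage U).hom, Iso.hom_inv_id_assoc, Scheme.Hom.isoImage_hom_ι_assoc, hq, Category.assoc]

section Field

variable {k : Type u} [Field k] {E H K : Over (Spec (CommRingCat.of k))} [GrpObj E] [GrpObj H] [GrpObj K]

/-- Over a field, an extension with connected quotient is commutative. -/
theorem comm_of_connected (p : E ⟶ K) [IsMonHom p] [Surjective p.left] [Flat p.left] [QuasiCompact p.left]
    [LocallyOfFinitePresentation p.left] [ConnectedSpace K.left] (i : H ⟶ E) [IsMonHom i]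
    (hker : AlgGrp.IsKernel i p) (hH : SGA3x.IsMultTypeFT H) (hK : SGA3x.IsMultTypeFT K)
    (T : Over (Spec (CommRingCat.of k))) (g x : T ⟶ E) : g * x = x * g := by
  haveI := mono_of_kernel hker
  have hz : ∀ (Y : Over (Spec (CommRingCat.of k))) (h : Y ⟶ H) (e : Y ⟶ E), (h ≫ i) * e = e * (h ≫ i) :=
    Groth.Agent.S5430.result _ E H K p i hker hH fun s => by
      have : K.hom.base ⁻¹' {s} = Set.univ := Set.eq_univ_of_forall fun y => Subsingleton.elim (K.hom.base y) s
      rw [this]
      exact isConnected_univ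
  have hchK := hasChartsFpqc_of_isMultTypeFT hK
  obtain ⟨l, hl⟩ := exists_lift hker (fst E E * snd E E * (fst E E)⁻¹ * (snd E E)⁻¹) (by
    simp only [MonObj.mul_comp, GrpObj.inv_comp]
    rw [mul_comm_of_charts hchK _ (fst E E ≫ p) (snd E E ≫ p)]
    group)
  have hL : ∀ (Y : Over (Spec (CommRingCat.of k))) (a b : Y ⟶ E), (lift a b ≫ l) ≫ i = a * b * a⁻¹ * b⁻¹ := by
    intro Y a b
    rw [Category.assoc, hl]
    simp only [MonObj.comp_mul, GrpObj.comp_inv, lift_fst, lift_snd]
  obtain ⟨_, _⟩ := epi_left_whiskerRight p E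
  haveI : LocallyOfFinitePresentation (p ▷ E).left := by
    have e : p ▷ E = (β_ E E).hom ≫ (E ◁ p) ≫ (β_ E K).hom := by
      rw [← BraidedCategory.braiding_naturality_left_assoc, SymmetricCategory.symmetry, Category.comp_id]
    haveI : IsIso (β_ E E).hom.left := inferInstanceAs (IsIso ((Over.forget _).mapIso (β_ E E)).hom)
    haveI : IsIso (β_ E K).hom.left := inferInstanceAs (IsIso ((Over.forget _).mapIso (β_ E K)).hom)
    haveI : LocallyOfFinitePresentation (E ◁ p).left :=
      MorphismProperty.of_isPullback (GrothLib.GrpSchField.whiskerLeft_snd_isPullback E p).flip ‹_›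
    rw [e, Over.comp_left, Over.comp_left]
    infer_instance
  obtain ⟨d, hd⟩ := DiagGrp.exists_desc (p ▷ E) l fun Y a a' haa => by
    obtain ⟨α, β, rfl⟩ : ∃ α β, a = lift α β :=
      ⟨a ≫ fst E E, a ≫ snd E E, by apply CartesianMonoidalCategory.hom_ext <;> simp⟩
    obtain ⟨α', β', rfl⟩ : ∃ α' β', a' = lift α' β' :=
      ⟨a' ≫ fst E E, a' ≫ snd E E, by apply CartesianMonoidalCategory.hom_ext <;> simp⟩
    rw [lift_whiskerRight, lift_whiskerRight] at haa
    have h1 : α ≫ p = α' ≫ p := by simpa using congrArg (· ≫ fst K E) haa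
    have h2 : β = β' := by simpa using congrArg (· ≫ snd K E) haa
    subst h2
    obtain ⟨h, rfl⟩ := (comp_eq_iff hker _ _).1 h1
    rw [← cancel_mono i, hL, hL, _root_.mul_assoc α (h ≫ i), hz _ h β, ← _root_.mul_assoc]
    group
  have hpl : ∀ (Y : Over (Spec (CommRingCat.of k))) (a b : Y ⟶ E), lift (a ≫ p) b ≫ d = lift a b ≫ l :=
    fun Y a b => by rw [← hd, lift_whiskerRight_assoc]
  have hcov : ∀ (Y : Over (Spec (CommRingCat.of k))) (κ : Y ⟶ K),
      ∃ (Y' : Over (Spec (CommRingCat.of k))) (j : Y' ⟶ Y) (_ : Epi j) (a : Y' ⟶ E), j ≫ κ = a ≫ p := by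
    intro Y κ
    let Y' : Over (Spec (CommRingCat.of k)) := Over.mk (pullback.fst κ.left p.left ≫ Y.hom)
    let j : Y' ⟶ Y := Over.homMk (pullback.fst κ.left p.left) rfl
    let a : Y' ⟶ E := Over.homMk (pullback.snd κ.left p.left) (by
      change _ = pullback.fst κ.left p.left ≫ Y.hom
      rw [← Over.w p, ← Over.w κ, pullback.condition_assoc])
    haveI : Epi j.left := Flat.epi_of_flat_of_surjective (pullback.fst κ.left p.left)
    exact ⟨Y', j, (Over.forget _).epi_of_epi_map (inferInstanceAs (Epi j.left)), a,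
      Over.OverMorphism.ext pullback.condition⟩
  have h := bihom_trivial_of_quot (G := K) (B := H) p i hker hK hH d (fun Y κ x y => ?_) (fun Y x => ?_)
    (fun Y κ n => ?_) T (g ≫ p) x
  · rw [hpl] at h
    have h1 := hL T g x
    rw [h, MonObj.one_comp, eq_comm, mul_inv_eq_one, mul_inv_eq_iff_eq_mul] at h1
    exact h1
  · obtain ⟨Y', j, hj, a, hja⟩ := hcov Y κ
    rw [← cancel_epi j, MonObj.comp_mul, comp_lift_assoc, comp_lift_assoc, comp_lift_assoc, hja, hpl, hpl, hpl,
      MonObj.comp_mul, ← cancel_mono i, MonObj.mul_comp, hL, hL, hL]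
    have hb := hz _ (lift a (j ≫ y) ≫ l) ((j ≫ x)⁻¹)
    rw [hL] at hb
    rw [_root_.mul_assoc _ (j ≫ x)⁻¹, ← hb]
    group
  · rw [← MonObj.one_comp (X := Y) p, hpl, ← cancel_mono i, hL, MonObj.one_comp]
    group
  · obtain ⟨Y', j, hj, a, hja⟩ := hcov Y κ
    rw [← cancel_epi j, comp_lift_assoc, hja, hpl, MonObj.comp_one, ← cancel_mono i, hL, MonObj.one_comp,
      ← Category.assoc, ← hz _ (j ≫ n) a]
    group

end Field

variable {E H K : Over S} [GrpObj E] [GrpObj H] [GrpObj K]

/-- An extension of groups of multiplicative type, each fibre of which is commutative or has connected quotient. -/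
theorem isMultTypeFT_of_extension' (p : E ⟶ K) [IsMonHom p] [Surjective p.left] [Flat p.left] [QuasiCompact p.left]
    (i : H ⟶ E) [IsMonHom i] (hker : AlgGrp.IsKernel i p) (hH : SGA3x.IsMultTypeFT H) (hK : SGA3x.IsMultTypeFT K)
    (hfib : ∀ s : S, _root_.IsConnected (K.hom.base ⁻¹' {s}) ∨
      ∀ (X : Over (Spec (S.residueField s))) (a b : X ⟶ Red.bc (S.fromSpecResidueField s) E), a * b = b * a) :
    SGA3x.IsMultTypeFT E := by
  haveI := lfp_of_isMultTypeFT hH
  haveI : LocallyOfFinitePresentation p.left := property_of_kernel @LocallyOfFinitePresentation hker inferInstance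
  have hKf : Flat K.hom := flat_of_charts (hasChartsFpqc_of_isMultTypeFT hK)
  have hE : FibComm E := by
    refine fibComm_of_bc fun s X a b => ?_
    rcases hfib s with hc | hc
    · let F := S.fromSpecResidueField s
      have sqp := isPullback_overMap p F
      haveI : Flat ((Over.pullback F).map p).left := MorphismProperty.of_isPullback sqp.flip ‹Flat p.left›
      haveI : Surjective ((Over.pullback F).map p).left :=
        MorphismProperty.of_isPullback sqp.flip ‹Surjective p.left›
      haveI : QuasiCompact ((Over.pullback F).map p).left :=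
        MorphismProperty.of_isPullback sqp.flip ‹QuasiCompact p.left›
      haveI : LocallyOfFinitePresentation ((Over.pullback F).map p).left :=
        MorphismProperty.of_isPullback sqp.flip ‹LocallyOfFinitePresentation p.left›
      haveI : ConnectedSpace (Red.bc F K).left := by
        haveI := isConnected_iff_connectedSpace.mp hc
        exact (K.hom.fiberHomeo s).symm.surjective.connectedSpace (K.hom.fiberHomeo s).symm.continuous
      exact comm_of_connected (k := S.residueField s) ((Over.pullback F).map p) ((Over.pullback F).map i)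
        (SplitTors24.isKernel_bc F hker)
        (QuotTorus14.isMultTypeFT_of_charts ((hasChartsFpqc_of_isMultTypeFT hH).baseChange F))
        (QuotTorus14.isMultTypeFT_of_charts ((hasChartsFpqc_of_isMultTypeFT hK).baseChange F)) X a b
    · exact hc X a b
  refine isMultTypeFT_of_affineOpens E fun V => ?_
  haveI : IsAffine (V.1 : Scheme.{u}) := V.2
  let R := Γ((V.1 : Scheme.{u}), ⊤)
  let f : Spec R ⟶ S := (V.1 : Scheme.{u}).isoSpec.inv ≫ V.1.ι
  have sqp := isPullback_overMap p f
  haveI : Flat ((Over.pullback f).map p).left := MorphismProperty.of_isPullback sqp.flip ‹Flat p.left›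
  haveI : Surjective ((Over.pullback f).map p).left :=
    MorphismProperty.of_isPullback sqp.flip ‹Surjective p.left›
  haveI : QuasiCompact ((Over.pullback f).map p).left :=
    MorphismProperty.of_isPullback sqp.flip ‹QuasiCompact p.left›
  have hEf : FibComm (Red.bc f E) := by
    intro s T τ hτ a b
    apply (bcPointMulEquiv f E T).symm.injective
    rw [map_mul, map_mul]
    refine hE (f.base s) _ (τ ≫ Spec.map (f.residueFieldMap s)) ?_ _ _
    change _ = T.hom ≫ f
    rw [← hτ]
    simp only [Category.assoc]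
    exact congrArg (τ ≫ ·) (Scheme.Hom.SpecMap_residueFieldMap_fromSpecResidueField f s)
  have h1 : SGA3x.IsMultTypeFT (Red.bc f E) :=
    isMultTypeFT_affine (R := R) ((Over.pullback f).map p) ((Over.pullback f).map i)
      (SplitTors24.isKernel_bc f hker)
      (QuotTorus14.isMultTypeFT_of_charts ((hasChartsFpqc_of_isMultTypeFT hH).baseChange f))
      (QuotTorus14.isMultTypeFT_of_charts ((hasChartsFpqc_of_isMultTypeFT hK).baseChange f))
      (MorphismProperty.pullback_snd _ _ hKf) hEf
  let g := (V.1 : Scheme.{u}).isoSpec.hom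
  have h2 := QuotTorus14.isMultTypeFT_of_charts ((hasChartsFpqc_of_isMultTypeFT h1).baseChange g)
  let e := bcGrpComp E f g V.1.ι (by simp [f, g])
  haveI : IsMonHom e.hom.hom.hom := Mon.Hom.isMonHom_hom _
  haveI : IsIso e.hom.hom.hom := inferInstanceAs (IsIso ((Grp.forget _).map e.hom))
  exact CentMT14.isMultTypeFT_congr h2 e.hom.hom.hom

end GrothLib.MTExtension14
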