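import Groth.Agent.Lib.EtSite.FpqcDescent
import Groth.Agent.Lib.GrpSchField.Points
import Groth.Prelude.Def_SGA3x
import Groth.Prelude.Def_AlgGrp
import Mathlib.AlgebraicGeometry.Morphisms.LocalFlatDescent

/-!
Extensions of group schemes: the kernel torsor and the power maps.
-/

set_option linter.unusedSectionVars false
set_option linter.style.haveILetI false

universe u

open CategoryTheory MonoidalCategory CartesianMonoidalCategory MonObj GrpObj AlgebraicGeometry CategoryTheory.Limits

set_option backward.isDefEq.respectTransparency false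

namespace GrothLib.MTExtension14

variable {S : Scheme.{u}} {E H K : Over S} [GrpObj E] [GrpObj H] [GrpObj K]
  {p : E ⟶ K} [IsMonHom p] {i : H ⟶ E} [IsMonHom i]

theorem comp_eq_one (hker : AlgGrp.IsKernel i p) {T : Over S} (h : T ⟶ H) : (h ≫ i) ≫ p = 1 := by
  rw [Category.assoc, hker.w, ← Category.assoc, toUnit_unique (h ≫ toUnit H) (toUnit T), ← Hom.one_def]

theorem exists_lift (hker : AlgGrp.IsKernel i p) {T : Over S} (a : T ⟶ E) (ha : a ≫ p = 1) :
    ∃ h : T ⟶ H, h ≫ i = a :=
  ⟨hker.lift a (toUnit T) (by rw [ha, Hom.one_def]), hker.lift_fst _ _ _⟩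

theorem mono_of_kernel (hker : AlgGrp.IsKernel i p) : Mono i :=
  ⟨fun _ _ e => hker.hom_ext e (toUnit_unique _ _)⟩

theorem comp_eq_iff (hker : AlgGrp.IsKernel i p) {T : Over S} (a b : T ⟶ E) :
    a ≫ p = b ≫ p ↔ ∃ h : T ⟶ H, b = a * (h ≫ i) := by
  constructor
  · intro e
    obtain ⟨h, hh⟩ := exists_lift hker (a⁻¹ * b) (by rw [MonObj.mul_comp, GrpObj.inv_comp, e, inv_mul_cancel])
    exact ⟨h, by rw [hh, mul_inv_cancel_left]⟩
  · rintro ⟨h, rfl⟩
    rw [MonObj.mul_comp, comp_eq_one hker, _root_.mul_one]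

/-- The right translation by the kernel. -/
noncomputable def mulK (i : H ⟶ E) : E ⊗ H ⟶ E := fst E H * (snd E H ≫ i)

theorem lift_mulK {T : Over S} (a : T ⟶ E) (h : T ⟶ H) : lift a h ≫ mulK i = a * (h ≫ i) := by
  rw [mulK, MonObj.comp_mul, lift_fst, lift_snd_assoc]

theorem isPullback_torsor (hker : AlgGrp.IsKernel i p) : IsPullback (fst E H) (mulK i) p p := by
  haveI := mono_of_kernel hker
  have w : fst E H ≫ p = mulK i ≫ p := (comp_eq_iff hker _ _).2 ⟨snd E H, rfl⟩
  refine IsPullback.of_isLimit' ⟨w⟩ (PullbackCone.IsLimit.mk _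
    (fun s => lift s.fst ((comp_eq_iff hker s.fst s.snd).1 s.condition).choose) (fun s => lift_fst _ _)
    (fun s => ?_) fun s t h1 h2 => ?_)
  · rw [lift_mulK]
    exact ((comp_eq_iff hker s.fst s.snd).1 s.condition).choose_spec.symm
  · apply CartesianMonoidalCategory.hom_ext
    · rw [lift_fst, h1]
    · rw [lift_snd, ← cancel_mono i]
      have h3 := ((comp_eq_iff hker s.fst s.snd).1 s.condition).choose_spec
      have h4 : t ≫ mulK i = s.fst * ((t ≫ snd E H) ≫ i) := by
        rw [mulK, MonObj.comp_mul, h1, Category.assoc]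
      rw [h2] at h4
      exact mul_left_cancel (h4.symm.trans h3)

theorem property_fst (P : MorphismProperty Scheme.{u}) [P.IsStableUnderBaseChange] (hH : P H.hom) :
    P (fst E H).left := by
  rw [Over.fst_left]
  exact MorphismProperty.pullback_fst _ _ hH

/-- A property of the kernel which descends along `p` holds for `p`. -/
theorem property_of_kernel (P : MorphismProperty Scheme.{u}) [P.IsStableUnderBaseChange]
    [P.DescendsAlong GrothLib.EtSite.fpqcCov] [Flat p.left] [Surjective p.left] [QuasiCompact p.left]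
    (hker : AlgGrp.IsKernel i p) (hH : P H.hom) : P p.left :=
  MorphismProperty.of_isPullback_of_descendsAlong (Q := GrothLib.EtSite.fpqcCov)
    ((isPullback_torsor hker).map (Over.forget S))
    ⟨⟨‹Surjective p.left›, ‹Flat p.left›⟩, ‹QuasiCompact p.left›⟩ (property_fst P hH)

omit [GrpObj E] [GrpObj H] [IsMonHom i] in
theorem isPullback_whiskerLeft {A B : Over S} (f : A ⟶ B) (C : Over S) :
    IsPullback (snd C A) (C ◁ f) f (snd C B) := by
  refine IsPullback.of_isLimit' ⟨(whiskerLeft_snd _ _).symm⟩ (PullbackCone.IsLimit.mk _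
    (fun s => lift (s.snd ≫ fst C B) s.fst) (fun s => lift_snd _ _) (fun s => ?_) fun s t h1 h2 => ?_)
  · apply CartesianMonoidalCategory.hom_ext
    · rw [Category.assoc, whiskerLeft_fst, lift_fst]
    · rw [Category.assoc, whiskerLeft_snd, lift_snd_assoc, s.condition]
  · apply CartesianMonoidalCategory.hom_ext
    · rw [lift_fst, ← h2, Category.assoc, whiskerLeft_fst]
    · rw [lift_snd, h1]

variable [Flat p.left] [Surjective p.left] [QuasiCompact p.left]

/-- The power maps of a commutative extension are finite when those of kernel and quotient are. -/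
theorem isFinite_pow (hker : AlgGrp.IsKernel i p) (hE : ∀ (T : Over S) (a b : T ⟶ E), a * b = b * a) (n : ℕ)
    (hH : IsFinite (𝟙 H ^ n : H ⟶ H).left) (hK : IsFinite (𝟙 K ^ n : K ⟶ K).left) :
    IsFinite (𝟙 E ^ n : E ⟶ E).left := by
  haveI := mono_of_kernel hker
  let nK : K ⟶ K := 𝟙 K ^ n
  let P : Over S := pullback nK p
  let c : P ⟶ K := pullback.fst nK p
  let b : P ⟶ E := pullback.snd nK p
  have hbc : ∀ {T : Over S} (z : T ⟶ P), (z ≫ b) ≫ p = (z ≫ c) ^ n := fun z => by
    rw [Category.assoc, ← pullback.condition, ← Category.assoc, MonObj.comp_pow, Category.comp_id]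
  let φ : E ⟶ P := pullback.lift p (𝟙 E ^ n) (by
    simp only [nK]
    rw [MonObj.comp_pow, Category.comp_id, MonObj.pow_comp, Category.id_comp])
  have hφc : φ ≫ c = p := pullback.lift_fst _ _ _
  have hφb : φ ≫ b = 𝟙 E ^ n := pullback.lift_snd _ _ _
  let Q : Over S := pullback c p
  let pr : Q ⟶ P := pullback.fst c p
  let x : Q ⟶ E := pullback.snd c p
  have hQc : ∀ {T : Over S} (z : T ⟶ Q), (z ≫ pr) ≫ c = (z ≫ x) ≫ p := fun z => by
    simp only [Category.assoc]; rw [pullback.condition]
  let z₀ : E ⊗ H ⟶ P := pullback.lift (fst E H ≫ p) ((fst E H) ^ n * (snd E H ≫ i)) (by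
    simp only [nK]
    rw [MonObj.comp_pow, Category.comp_id, MonObj.mul_comp, MonObj.pow_comp, comp_eq_one hker, _root_.mul_one])
  let θ : E ⊗ H ⟶ Q := pullback.lift z₀ (fst E H) (pullback.lift_fst _ _ _)
  obtain ⟨h', hh'⟩ := exists_lift hker ((x ^ n)⁻¹ * (pr ≫ b)) (by
    have h₁ : pr ≫ c = x ≫ p := pullback.condition
    rw [MonObj.mul_comp, GrpObj.inv_comp, MonObj.pow_comp, hbc, h₁, inv_mul_cancel])
  have hθx : θ ≫ x = fst E H := pullback.lift_snd _ _ _
  have hθpr : θ ≫ pr = z₀ := pullback.lift_fst _ _ _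
  haveI : IsIso θ := by
    refine ⟨lift x h', ?_, ?_⟩
    · apply CartesianMonoidalCategory.hom_ext
      · rw [Category.assoc, lift_fst, hθx, Category.id_comp]
      · rw [Category.assoc, lift_snd, Category.id_comp, ← cancel_mono i, Category.assoc, hh', MonObj.comp_mul,
          GrpObj.comp_inv, MonObj.comp_pow, hθx, ← Category.assoc, hθpr, pullback.lift_snd, inv_mul_cancel_left]
    · apply pullback.hom_ext
      · apply pullback.hom_ext
        · rw [Category.assoc, Category.assoc, Category.id_comp, ← Category.assoc θ, hθpr, pullback.lift_fst,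
            lift_fst_assoc]
          exact pullback.condition.symm
        · rw [Category.assoc, Category.assoc, Category.id_comp, ← Category.assoc θ, hθpr, pullback.lift_snd,
            MonObj.comp_mul, MonObj.comp_pow, lift_fst, lift_snd_assoc, hh', mul_inv_cancel_left]
      · rw [Category.assoc, hθx, lift_fst, Category.id_comp]
  haveI : IsIso θ.left := inferInstanceAs (IsIso ((Over.forget S).map θ))
  let ψ : E ⊗ H ⟶ Q := (E ◁ (𝟙 H ^ n : H ⟶ H)) ≫ θ
  have hψx : ψ ≫ x = fst E H := by simp only [ψ, Category.assoc, hθx, whiskerLeft_fst]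
  have hψpr : ψ ≫ pr = mulK i ≫ φ := by
    simp only [ψ, Category.assoc, hθpr]
    apply pullback.hom_ext
    · simp only [Category.assoc, z₀, pullback.lift_fst]
      rw [whiskerLeft_fst_assoc]
      change fst E H ≫ p = mulK i ≫ φ ≫ c
      rw [hφc]
      exact (isPullback_torsor hker).w
    · simp only [Category.assoc, z₀, pullback.lift_snd]
      change (E ◁ (𝟙 H ^ n : H ⟶ H)) ≫ ((fst E H) ^ n * (snd E H ≫ i)) = mulK i ≫ φ ≫ b
      rw [hφb, MonObj.comp_pow, Category.comp_id, MonObj.comp_mul, MonObj.comp_pow, whiskerLeft_fst,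
        whiskerLeft_snd_assoc, MonObj.pow_comp, Category.id_comp, MonObj.comp_pow, mulK,
        Commute.mul_pow (show Commute (fst E H) (snd E H ≫ i) from hE _ _ _)]
  have sq : IsPullback (mulK i) ψ φ pr := by
    refine IsPullback.of_isLimit' ⟨hψpr.symm⟩ (PullbackCone.IsLimit.mk _
      (fun s => lift (s.snd ≫ x) ((comp_eq_iff hker (s.snd ≫ x) s.fst).1 (by
        rw [← hQc, ← s.condition, Category.assoc, hφc])).choose) (fun s => ?_) (fun s => ?_) fun s t h1 h2 => ?_)
    · rw [lift_mulK]
      generalize_proofs h₀; exact h₀.choose_spec.symm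
    · generalize_proofs h₀
      apply pullback.hom_ext
      · change (lift _ _ ≫ ψ) ≫ pr = s.snd ≫ pr
        rw [Category.assoc, hψpr, ← Category.assoc, lift_mulK, ← h₀.choose_spec, s.condition]
      · change (lift _ _ ≫ ψ) ≫ x = s.snd ≫ x
        rw [Category.assoc, hψx, lift_fst]
    · generalize_proofs h₀
      have h3 : t ≫ fst E H = s.snd ≫ x := by rw [← hψx, ← Category.assoc, h2]
      apply CartesianMonoidalCategory.hom_ext
      · rw [lift_fst, h3]
      · rw [lift_snd, ← cancel_mono i]
        have h4 : t ≫ mulK i = (s.snd ≫ x) * ((t ≫ snd E H) ≫ i) := by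
          rw [mulK, MonObj.comp_mul, h3, Category.assoc]
        rw [h1] at h4
        exact mul_left_cancel (h4.symm.trans h₀.choose_spec)
  haveI : IsFinite ψ.left := by
    haveI : IsFinite (E ◁ (𝟙 H ^ n : H ⟶ H)).left :=
      MorphismProperty.of_isPullback ((isPullback_whiskerLeft (𝟙 H ^ n : H ⟶ H) E).map (Over.forget S)) hH
    rw [Over.comp_left]
    infer_instance
  have sqpr : IsPullback x.left pr.left p.left c.left :=
    ((IsPullback.of_hasPullback c p).map (Over.forget S)).flip
  haveI : IsFinite φ.left :=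
    MorphismProperty.of_isPullback_of_descendsAlong (Q := GrothLib.EtSite.fpqcCov)
      (sq.map (Over.forget S)).flip
      ⟨⟨MorphismProperty.of_isPullback sqpr ‹Surjective p.left›, MorphismProperty.of_isPullback sqpr ‹Flat p.left›⟩,
        MorphismProperty.of_isPullback sqpr ‹QuasiCompact p.left›⟩ ‹IsFinite ψ.left›
  haveI : IsFinite b.left :=
    MorphismProperty.of_isPullback ((IsPullback.of_hasPullback nK p).map (Over.forget S)) hK
  rw [← hφb, Over.comp_left]
  infer_instance

end GrothLib.MTExtension14
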